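import Mathlib
import Groth.Agent.Lib.Helper18.PtCount.HomCount

/-! # Points of a finite type `ℤ`-algebra in finite fields of a fixed characteristic -/

set_option autoImplicit false

universe u

namespace Groth.Agent.Lib.Helper18.ArithCount

open Groth.Agent.Lib.Helper18.PtCount

theorem exists_card_ringHom_le_char {A : Type u} [CommRing A] [Algebra.FiniteType ℤ A] (r : ℕ)
    (hr : ringKrullDim A ≤ r) (p : ℕ) [hp : Fact p.Prime] :
    ∃ N : ℕ, ∀ (F : Type u) [Field F] [Finite F], ((p : ℕ) : F) = 0 →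
      Finite (A →+* F) ∧ Nat.card (A →+* F) ≤ N * Nat.card F ^ r := by
  classical
  set I : Ideal A := Ideal.span {((p : ℕ) : A)} with hI
  have hpI : ((p : ℕ) : A ⧸ I) = 0 := by
    rw [← map_natCast (Ideal.Quotient.mk I)]
    exact Ideal.Quotient.eq_zero_iff_mem.mpr (Ideal.subset_span rfl)
  rcases subsingleton_or_nontrivial (A ⧸ I) with hsub | hnon
  · refine ⟨0, fun F _ _ hF => ?_⟩
    have : IsEmpty (A →+* F) := ⟨fun φ => by
      have h1 : I = ⊤ := Ideal.Quotient.subsingleton_iff.mp hsub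
      have h2 : (1 : A) ∈ I := by rw [h1]; trivial
      rw [hI, Ideal.mem_span_singleton] at h2
      obtain ⟨c, hc⟩ := h2
      have h3 := congrArg φ hc
      rw [map_one, map_mul, map_natCast, hF, zero_mul] at h3
      exact one_ne_zero h3⟩
    exact ⟨inferInstance, by simp⟩
  haveI : CharP (A ⧸ I) p := (CharP.charP_iff_prime_eq_zero hp.out).mpr hpI
  letI : Algebra (ULift.{u} (ZMod p)) (A ⧸ I) :=
    ((ZMod.castHom (dvd_refl p) (A ⧸ I)).comp
      (ULift.ringEquiv : ULift.{u} (ZMod p) ≃+* ZMod p).toRingHom).toAlgebra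
  haveI : Algebra.FiniteType ℤ (A ⧸ I) :=
    Algebra.FiniteType.of_surjective (Ideal.Quotient.mkₐ ℤ I) Ideal.Quotient.mk_surjective
  haveI : Algebra.FiniteType (ULift.{u} (ZMod p)) (A ⧸ I) :=
    Algebra.FiniteType.of_restrictScalars_finiteType ℤ (ULift.{u} (ZMod p)) (A ⧸ I)
  have hdim : ringKrullDim (A ⧸ I) ≤ r := (ringKrullDim_quotient_le I).trans hr
  obtain ⟨N, hN⟩ := exists_card_algHom_le (k := ULift.{u} (ZMod p)) (A := A ⧸ I) r hdim
  refine ⟨N, fun F _ _ hF => ?_⟩
  haveI : CharP F p := (CharP.charP_iff_prime_eq_zero hp.out).mpr hF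
  letI : Algebra (ULift.{u} (ZMod p)) F :=
    ((ZMod.castHom (dvd_refl p) F).comp
      (ULift.ringEquiv : ULift.{u} (ZMod p) ≃+* ZMod p).toRingHom).toAlgebra
  obtain ⟨hfin, hcard⟩ := hN F
  haveI := hfin
  haveI : Module.Finite (ULift.{u} (ZMod p)) F := Module.Finite.of_finite
  have hcardF : Nat.card F = Nat.card (ULift.{u} (ZMod p)) ^
      Module.finrank (ULift.{u} (ZMod p)) F := Module.natCard_eq_pow_finrank
  have hker : ∀ φ : A →+* F, ∀ a ∈ I, φ a = 0 := by
    intro φ a ha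
    rw [hI, Ideal.mem_span_singleton] at ha
    obtain ⟨c, rfl⟩ := ha
    rw [map_mul, map_natCast, hF, zero_mul]
  let Φ : (A →+* F) → ((A ⧸ I) →ₐ[ULift.{u} (ZMod p)] F) := fun φ =>
    { Ideal.Quotient.lift I φ (hker φ) with
      commutes' := by
        intro c
        have h1 : ((Ideal.Quotient.lift I φ (hker φ)).comp
            (algebraMap (ULift.{u} (ZMod p)) (A ⧸ I))).comp
              (ULift.ringEquiv : ULift.{u} (ZMod p) ≃+* ZMod p).symm.toRingHom =
            (algebraMap (ULift.{u} (ZMod p)) F).comp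
              (ULift.ringEquiv : ULift.{u} (ZMod p) ≃+* ZMod p).symm.toRingHom :=
          Subsingleton.elim _ _
        have h2 := RingHom.congr_fun h1 (ULift.ringEquiv c)
        simpa using h2 }
  have hΦ : Function.Injective Φ := by
    intro φ φ' h
    ext a
    have h1 := congrArg (fun ψ : (A ⧸ I) →ₐ[ULift.{u} (ZMod p)] F => ψ (Ideal.Quotient.mk I a)) h
    exact h1
  haveI : Finite (A →+* F) := Finite.of_injective Φ hΦ
  refine ⟨inferInstance, ?_⟩
  calc Nat.card (A →+* F) ≤ Nat.card ((A ⧸ I) →ₐ[ULift.{u} (ZMod p)] F) :=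
        Nat.card_le_card_of_injective Φ hΦ
    _ ≤ N * Nat.card (ULift.{u} (ZMod p)) ^ (r * Module.finrank (ULift.{u} (ZMod p)) F) := hcard
    _ = N * Nat.card F ^ r := by
        rw [hcardF, ← pow_mul, mul_comm r]

end Groth.Agent.Lib.Helper18.ArithCount
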