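import Mathlib

/-! # Counting ring maps to a finite field through an integrality relation -/

set_option autoImplicit false

universe u

open Polynomial

namespace Groth.Agent.Lib.Helper18.ArithCount

/-- If `A` is generated by the finite set `t`, and for each `a ∈ t` a nonzero integer multiple
`n a * a` is (up to an integer `n' a`) a root of a monic polynomial `Q a` with coefficients
polynomials in `y`, then a finite field `F` in which the `n a`, `n' a` are invertible has at most
`(∏ deg Q a) * #F ^ d` points in `A`. -/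
theorem card_ringHom_le {A : Type u} [CommRing A] (t : Finset A)
    (ht : Algebra.adjoin ℤ (t : Set A) = ⊤) (d : ℕ) (y : Fin d → A) (n n' : t → ℤ)
    (Q : t → Polynomial (MvPolynomial (Fin d) ℤ)) (hQ : ∀ a, (Q a).Monic)
    (hrel : ∀ a : t, (n' a : A) * Polynomial.eval₂
      (MvPolynomial.aeval y : MvPolynomial (Fin d) ℤ →ₐ[ℤ] A).toRingHom ((n a : A) * a.1) (Q a) = 0)
    (F : Type u) [Field F] [Finite F] (hF : ∀ a : t, (n a : F) ≠ 0 ∧ (n' a : F) ≠ 0) :
    Finite (A →+* F) ∧ Nat.card (A →+* F) ≤ (∏ a : t, (Q a).natDegree) * Nat.card F ^ d := by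
  classical
  haveI : Fintype F := Fintype.ofFinite F
  let ev : (Fin d → F) → (MvPolynomial (Fin d) ℤ →+* F) := fun c =>
    (MvPolynomial.aeval c : MvPolynomial (Fin d) ℤ →ₐ[ℤ] F).toRingHom
  let R : t → (Fin d → F) → Finset F := fun a c => ((Q a).map (ev c)).roots.toFinset
  have hR : ∀ a c, (R a c).card ≤ (Q a).natDegree := by
    intro a c
    calc (R a c).card ≤ Multiset.card ((Q a).map (ev c)).roots := Multiset.toFinset_card_le _
      _ ≤ ((Q a).map (ev c)).natDegree := Polynomial.card_roots' _
      _ = (Q a).natDegree := (hQ a).natDegree_map _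
  let T : Finset (Σ _ : (Fin d → F), (t → F)) :=
    Finset.univ.sigma (fun c => Fintype.piFinset (fun a => R a c))
  have hT : T.card ≤ (∏ a : t, (Q a).natDegree) * Nat.card F ^ d := by
    rw [Finset.card_sigma]
    calc ∑ c : Fin d → F, (Fintype.piFinset fun a => R a c).card
        = ∑ c : Fin d → F, ∏ a, (R a c).card := by
          refine Finset.sum_congr rfl fun c _ => ?_
          rw [Fintype.card_piFinset]
      _ ≤ ∑ _c : Fin d → F, ∏ a : t, (Q a).natDegree :=
          Finset.sum_le_sum fun c _ => Finset.prod_le_prod' fun a _ => hR a c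
      _ = Fintype.card (Fin d → F) * ∏ a : t, (Q a).natDegree := by
          rw [Finset.sum_const, Finset.card_univ, smul_eq_mul]
      _ = (∏ a : t, (Q a).natDegree) * Nat.card F ^ d := by
          rw [Fintype.card_fun, Fintype.card_fin, ← Nat.card_eq_fintype_card, mul_comm]
  let Φ : (A →+* F) → T := fun φ =>
    ⟨⟨fun i => φ (y i), fun a => φ ((n a : A) * a.1)⟩, by
      rw [Finset.mem_sigma]
      refine ⟨Finset.mem_univ _, ?_⟩
      rw [Fintype.mem_piFinset]
      intro a
      show φ ((n a : A) * a.1) ∈ ((Q a).map (ev _)).roots.toFinset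
      rw [Multiset.mem_toFinset, Polynomial.mem_roots ((hQ a).map _).ne_zero,
        Polynomial.IsRoot.def, Polynomial.eval_map]
      have h1 : ev (fun i => φ (y i)) =
          φ.comp (MvPolynomial.aeval y : MvPolynomial (Fin d) ℤ →ₐ[ℤ] A).toRingHom := by
        apply MvPolynomial.ringHom_ext
        · intro z
          simp [ev]
        · intro i
          simp [ev]
      rw [h1]
      have h3 := Polynomial.hom_eval₂ (Q a)
        (MvPolynomial.aeval y : MvPolynomial (Fin d) ℤ →ₐ[ℤ] A).toRingHom φ ((n a : A) * a.1)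
      rw [← h3]
      have h4 := congrArg φ (hrel a)
      rw [map_mul, map_zero, map_intCast] at h4
      exact (mul_eq_zero.mp h4).resolve_left (hF a).2⟩
  have hΦ : Function.Injective Φ := by
    intro φ φ' h
    have h1 : ∀ a : t, φ a.1 = φ' a.1 := by
      intro a
      have h2 : φ ((n a : A) * a.1) = φ' ((n a : A) * a.1) :=
        congrArg (fun x : T => x.1.2 a) h
      rw [map_mul, map_mul, map_intCast, map_intCast] at h2
      exact mul_left_cancel₀ (hF a).1 h2
    have h5 : φ.toIntAlgHom = φ'.toIntAlgHom := by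
      apply AlgHom.ext_of_adjoin_eq_top ht
      intro a ha
      exact h1 ⟨a, ha⟩
    ext x
    exact congrArg (fun ψ : A →ₐ[ℤ] F => ψ x) h5
  haveI : Finite (A →+* F) := Finite.of_injective Φ hΦ
  refine ⟨inferInstance, ?_⟩
  calc Nat.card (A →+* F) ≤ Nat.card T := Nat.card_le_card_of_injective Φ hΦ
    _ = T.card := by rw [Nat.card_eq_fintype_card, Fintype.card_coe]
    _ ≤ _ := hT

end Groth.Agent.Lib.Helper18.ArithCount
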