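import Mathlib
import Groth.Agent.Lib.Helper24.FTZ.Alg

/-! # Dimension of a finite type `ℤ`-algebra against the dimension of its generic fibre -/

set_option autoImplicit false

universe u

namespace Groth.Agent.Lib.Helper18.ArithCount

open Groth.Agent.Lib.Helper24.FTZ

/-- A prime of a finite type `ℤ`-algebra not meeting the nonzero integers is not maximal. -/
theorem not_isMaximal_of_int_disjoint {A : Type u} [CommRing A] [Algebra.FiniteType ℤ A]
    (P : Ideal A) [P.IsPrime] (hP : ∀ n : ℤ, (n : A) ∈ P → n = 0) : ¬ P.IsMaximal := by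
  intro hmax
  letI : Field (A ⧸ P) := Ideal.Quotient.field P
  haveI : Algebra.FiniteType ℤ (A ⧸ P) :=
    Algebra.FiniteType.of_surjective (Ideal.Quotient.mkₐ ℤ P) Ideal.Quotient.mk_surjective
  haveI : Module.Finite ℤ (A ⧸ P) := finite_of_finite_type_of_isJacobsonRing ℤ (A ⧸ P)
  have hinj : Function.Injective (algebraMap ℤ (A ⧸ P)) := by
    rw [injective_iff_map_eq_zero]
    intro n hn
    apply hP
    rw [← Ideal.Quotient.eq_zero_iff_mem]
    simpa using hn
  exact Int.not_isField (isField_of_isIntegral_of_isField hinj (Field.toIsField _))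

/-- If `B` is the localization of a finite type `ℤ`-algebra `A` at the nonzero integers and
`d ≤ dim B`, then `d + 1 ≤ dim A`. -/
theorem succ_le_ringKrullDim {A : Type u} [CommRing A] [Algebra.FiniteType ℤ A]
    {B : Type u} [CommRing B] [Algebra A B]
    [IsLocalization (Algebra.algebraMapSubmonoid A (nonZeroDivisors ℤ)) B] (d : ℕ)
    (hd : (d : WithBot ℕ∞) ≤ ringKrullDim B) : ((d + 1 : ℕ) : WithBot ℕ∞) ≤ ringKrullDim A := by
  obtain ⟨l, hl⟩ := (Order.le_krullDim_iff).mp hd
  set Q : Ideal B := l.last.asIdeal with hQ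
  haveI : Q.IsPrime := l.last.2
  have hQh : (d : ℕ∞) ≤ Q.height := by
    rw [hQ, PrimeSpectrum.height_eq_orderHeight, ← hl]
    exact Order.length_le_height_last
  set P : Ideal A := Q.under A with hPdef
  haveI : P.IsPrime := Ideal.IsPrime.under A Q
  have hPh : P.height = Q.height :=
    IsLocalization.height_under (Algebra.algebraMapSubmonoid A (nonZeroDivisors ℤ)) Q
  have hPnm : ¬ P.IsMaximal := by
    apply not_isMaximal_of_int_disjoint
    intro n hn
    by_contra hn0
    have h1 : IsUnit (algebraMap A B (n : A)) :=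
      IsLocalization.map_units B (⟨(n : A), ⟨n, mem_nonZeroDivisors_of_ne_zero hn0, by simp⟩⟩ :
        Algebra.algebraMapSubmonoid A (nonZeroDivisors ℤ))
    have h2 : algebraMap A B (n : A) ∈ Q := hn
    exact (Ideal.IsPrime.ne_top ‹Q.IsPrime›) (Ideal.eq_top_of_isUnit_mem _ h2 h1)
  obtain ⟨M, hM, hPM⟩ := Ideal.exists_le_maximal P (Ideal.IsPrime.ne_top ‹P.IsPrime›)
  have hlt : P < M := lt_of_le_of_ne hPM (fun h => hPnm (h ▸ hM))
  haveI : M.IsPrime := hM.isPrime
  have h3 : P.height + 1 ≤ M.height := Ideal.height_add_one_le_of_lt_of_isPrime hlt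
  have h4 : (M.height : WithBot ℕ∞) ≤ ringKrullDim A :=
    Ideal.height_le_ringKrullDim_of_ne_top hM.ne_top
  refine le_trans ?_ h4
  have h5 : ((d + 1 : ℕ) : ℕ∞) ≤ M.height := by
    refine le_trans ?_ h3
    rw [hPh]
    push_cast
    exact add_le_add_left hQh 1
  exact_mod_cast h5

end Groth.Agent.Lib.Helper18.ArithCount
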