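import Groth.Agent.Lib.Helper18.ArithCount.Dim
import Groth.Agent.Lib.Helper18.ArithCount.Count
import Groth.Agent.Lib.Helper29.IntegralDim

/-! # Points of a finite type `ℤ`-algebra in finite fields of large characteristic -/

set_option autoImplicit false

universe u

open Polynomial TensorProduct

namespace Groth.Agent.Lib.Helper18.ArithCount

attribute [local instance] Algebra.TensorProduct.rightAlgebra MvPolynomial.algebraMvPolynomial

theorem intCast_ne_zero_of_natAbs {F : Type*} [Field F] {z : ℤ} (h : ((z.natAbs : ℕ) : F) ≠ 0) :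
    (z : F) ≠ 0 := by
  intro h0
  apply h
  rw [Nat.cast_natAbs]
  rcases abs_choice z with h1 | h1 <;> rw [h1] <;> simp [h0]

/-- Spreading out Noether normalization of the generic fibre. -/
theorem exists_spread {A : Type u} [CommRing A] [Algebra.FiniteType ℤ A]
    (t : Finset A) (d : ℕ) (g : MvPolynomial (Fin d) ℚ →ₐ[ℚ] (ℚ ⊗[ℤ] A)) (hg : g.Finite) :
    ∃ (y : Fin d → A) (n n' : t → ℤ) (Q : t → Polynomial (MvPolynomial (Fin d) ℤ)),
      (∀ a, n a ≠ 0) ∧ (∀ a, n' a ≠ 0) ∧ (∀ a, (Q a).Monic) ∧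
      ∀ a : t, (n' a : A) * Polynomial.eval₂
        (MvPolynomial.aeval y : MvPolynomial (Fin d) ℤ →ₐ[ℤ] A).toRingHom ((n a : A) * a.1) (Q a)
          = 0 := by
  classical
  set B := ℚ ⊗[ℤ] A with hB
  set Mloc := Algebra.algebraMapSubmonoid A (nonZeroDivisors ℤ) with hMloc
  haveI : IsLocalization Mloc B := IsLocalization.tensorRight (R := ℤ) (S := A) ℚ (nonZeroDivisors ℤ)
  have hcastA : ∀ z : ℤ, algebraMap A B (z : A) = (z : B) := fun z => map_intCast _ z
  have hcastQ : ∀ z : ℤ, algebraMap ℚ B (z : ℚ) = (z : B) := fun z => map_intCast _ z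
  -- choose the `y j`
  have h1 : ∀ j : Fin d, ∃ (yj : A) (nj : ℤ), nj ≠ 0 ∧
      g (MvPolynomial.X j) * (nj : B) = algebraMap A B yj := by
    intro j
    obtain ⟨⟨yj, s⟩, hs⟩ := IsLocalization.surj Mloc (g (MvPolynomial.X j))
    obtain ⟨nj, hnj, hnjs⟩ := s.2
    refine ⟨yj, nj, nonZeroDivisors.ne_zero hnj, ?_⟩
    rw [← hs, ← hcastA]
    congr 2
  choose y ny hny hy using h1
  refine ⟨y, ?_⟩
  let g' : MvPolynomial (Fin d) ℚ →ₐ[ℚ] B := MvPolynomial.aeval (fun j => algebraMap A B (y j))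
  let σ' : MvPolynomial (Fin d) ℚ →ₐ[ℚ] MvPolynomial (Fin d) ℚ :=
    MvPolynomial.aeval (fun j => MvPolynomial.C ((ny j : ℚ)⁻¹) * MvPolynomial.X j)
  have hgg' : g = g'.comp σ' := by
    apply MvPolynomial.algHom_ext
    intro j
    have hq : ((ny j : ℚ)) ≠ 0 := by exact_mod_cast hny j
    rw [AlgHom.comp_apply]
    simp only [σ', g', MvPolynomial.aeval_X, map_mul, MvPolynomial.aeval_C]
    rw [← hy j, ← hcastQ, mul_comm (g _), ← mul_assoc, ← map_mul, inv_mul_cancel₀ hq, map_one,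
      one_mul]
  have hint' : g'.toRingHom.IsIntegral := by
    apply RingHom.IsIntegral.tower_top σ'.toRingHom g'.toRingHom
    have : g'.toRingHom.comp σ'.toRingHom = g.toRingHom := by
      rw [hgg']; rfl
    rw [this]
    exact hg.to_isIntegral
  letI algQ : Algebra (MvPolynomial (Fin d) ℚ) B := g'.toRingHom.toAlgebra
  letI algZ : Algebra (MvPolynomial (Fin d) ℤ) B :=
    (g'.toRingHom.comp
      (algebraMap (MvPolynomial (Fin d) ℤ) (MvPolynomial (Fin d) ℚ))).toAlgebra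
  haveI : IsScalarTower (MvPolynomial (Fin d) ℤ) (MvPolynomial (Fin d) ℚ) B :=
    IsScalarTower.of_algebraMap_eq (fun _ => rfl)
  have hkey : algebraMap (MvPolynomial (Fin d) ℤ) B =
      (algebraMap A B).comp
        (MvPolynomial.aeval y : MvPolynomial (Fin d) ℤ →ₐ[ℤ] A).toRingHom := by
    apply MvPolynomial.ringHom_ext
    · intro z
      show g' (algebraMap (MvPolynomial (Fin d) ℤ) (MvPolynomial (Fin d) ℚ) (MvPolynomial.C z)) = _
      rw [MvPolynomial.algebraMap_def, MvPolynomial.map_C]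
      simp [g']
    · intro j
      show g' (algebraMap (MvPolynomial (Fin d) ℤ) (MvPolynomial (Fin d) ℚ) (MvPolynomial.X j)) = _
      rw [MvPolynomial.algebraMap_def, MvPolynomial.map_X]
      simp [g']
  have h2 : ∀ a : t, ∃ (na na' : ℤ) (Qa : Polynomial (MvPolynomial (Fin d) ℤ)),
      na ≠ 0 ∧ na' ≠ 0 ∧ Qa.Monic ∧ (na' : A) * Polynomial.eval₂
        (MvPolynomial.aeval y : MvPolynomial (Fin d) ℤ →ₐ[ℤ] A).toRingHom ((na : A) * a.1) Qa
          = 0 := by
    intro a
    have hx : IsIntegral (MvPolynomial (Fin d) ℚ) (algebraMap A B a.1) := hint' _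
    obtain ⟨⟨m, hm⟩, hmx⟩ := IsIntegral.exists_multiple_integral_of_isLocalization
      ((nonZeroDivisors ℤ).map (MvPolynomial.C (σ := Fin d))) (Rₘ := MvPolynomial (Fin d) ℚ)
      (algebraMap A B a.1) hx
    have hm2 := hm
    obtain ⟨na, hna, hnam⟩ := hm2
    obtain ⟨Qa, hQa, hroot⟩ := hmx
    have h3 : (⟨m, hm⟩ :
        ((nonZeroDivisors ℤ).map (MvPolynomial.C (σ := Fin d)))) • (algebraMap A B a.1) =
          algebraMap A B ((na : A) * a.1) := by
      rw [Submonoid.smul_def, Algebra.smul_def, hkey, map_mul, hcastA]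
      show (algebraMap A B).comp _ m * _ = _
      rw [← hnam]
      simp
    rw [h3, hkey, ← Polynomial.hom_eval₂] at hroot
    obtain ⟨⟨m', hm'⟩, hm'0⟩ := (IsLocalization.map_eq_zero_iff Mloc B _).mp hroot
    obtain ⟨na', hna', rfl⟩ := hm'
    refine ⟨na, na', Qa, nonZeroDivisors.ne_zero hna, nonZeroDivisors.ne_zero hna', hQa, ?_⟩
    rw [← hm'0]
    simp
  choose n n' Q hn hn' hQ hrel using h2
  exact ⟨n, n', Q, hn, hn', hQ, hrel⟩

theorem exists_card_ringHom_le_generic {A : Type u} [CommRing A] [Algebra.FiniteType ℤ A] (r : ℕ)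
    (hr : ringKrullDim A ≤ r) :
    ∃ N D : ℕ, 0 < N ∧ ∀ (F : Type u) [Field F] [Finite F], ((N : ℕ) : F) ≠ 0 →
      Finite (A →+* F) ∧ Nat.card (A →+* F) * Nat.card F ≤ D * Nat.card F ^ r := by
  classical
  set B := ℚ ⊗[ℤ] A with hB
  set Mloc := Algebra.algebraMapSubmonoid A (nonZeroDivisors ℤ) with hMloc
  haveI : IsLocalization Mloc B := IsLocalization.tensorRight (R := ℤ) (S := A) ℚ (nonZeroDivisors ℤ)
  rcases subsingleton_or_nontrivial B with hsub | hnon
  · have h0 : algebraMap A B 1 = 0 := Subsingleton.elim _ _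
    obtain ⟨⟨m, hm⟩, hm0⟩ := (IsLocalization.map_eq_zero_iff Mloc B _).mp h0
    obtain ⟨z, hz, rfl⟩ := hm
    have hz0 : z ≠ 0 := nonZeroDivisors.ne_zero hz
    have hzA : (z : A) = 0 := by
      have : algebraMap ℤ A z * 1 = 0 := hm0
      simpa using this
    refine ⟨z.natAbs, 0, Int.natAbs_pos.mpr hz0, fun F _ _ hF => ?_⟩
    have : IsEmpty (A →+* F) := ⟨fun φ => by
      have h1 := congrArg φ hzA
      rw [map_intCast, map_zero] at h1
      exact intCast_ne_zero_of_natAbs hF h1⟩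
    exact ⟨inferInstance, by simp⟩
  obtain ⟨d, g, hinj, hfin⟩ := exists_finite_inj_algHom_of_fg ℚ B
  have hd : d + 1 ≤ r := by
    have h1 : ((d : ℕ) : WithBot ℕ∞) ≤ ringKrullDim B := by
      letI := g.toRingHom.toAlgebra
      haveI : Algebra.IsIntegral (MvPolynomial (Fin d) ℚ) B := ⟨hfin.to_isIntegral⟩
      have h1 := Groth.Agent.Lib.Helper29.ringKrullDim_le_of_isIntegral_of_injective
        (A := MvPolynomial (Fin d) ℚ) (A' := B) hinj
      rw [MvPolynomial.ringKrullDim_of_isNoetherianRing, ringKrullDim_eq_zero_of_field, zero_add,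
        Nat.card_fin] at h1
      exact h1
    have h2 := (succ_le_ringKrullDim (A := A) (B := B) d h1).trans hr
    exact_mod_cast h2
  obtain ⟨t, ht⟩ := (Algebra.FiniteType.out : (⊤ : Subalgebra ℤ A).FG)
  obtain ⟨y, n, n', Q, hn, hn', hQ, hrel⟩ := exists_spread t d g hfin
  refine ⟨∏ a : t, (n a * n' a).natAbs, ∏ a : t, (Q a).natDegree, ?_, fun F _ _ hF => ?_⟩
  · apply Finset.prod_pos
    intro a _
    exact Int.natAbs_pos.mpr (mul_ne_zero (hn a) (hn' a))
  have hF' : ∀ a : t, (n a : F) ≠ 0 ∧ (n' a : F) ≠ 0 := by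
    intro a
    rw [Nat.cast_prod, Finset.prod_ne_zero_iff] at hF
    have h1 := intCast_ne_zero_of_natAbs (hF a (Finset.mem_univ a))
    rw [Int.cast_mul] at h1
    exact ⟨left_ne_zero_of_mul h1, right_ne_zero_of_mul h1⟩
  obtain ⟨hfinite, hcard⟩ := card_ringHom_le t ht d y n n' Q hQ hrel F hF'
  refine ⟨hfinite, ?_⟩
  have hq : 0 < Nat.card F := Nat.card_pos
  calc Nat.card (A →+* F) * Nat.card F
      ≤ ((∏ a : t, (Q a).natDegree) * Nat.card F ^ d) * Nat.card F :=
        Nat.mul_le_mul_right _ hcard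
    _ = (∏ a : t, (Q a).natDegree) * Nat.card F ^ (d + 1) := by rw [pow_succ, mul_assoc]
    _ ≤ (∏ a : t, (Q a).natDegree) * Nat.card F ^ r :=
        Nat.mul_le_mul_left _ (Nat.pow_le_pow_right hq hd)

end Groth.Agent.Lib.Helper18.ArithCount
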