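import Groth.Agent.Lib.Helper18.ArithCount.Generic
import Groth.Agent.Lib.Helper18.ArithCount.CharP

/-! # Points of a finite type `ℤ`-algebra in finite fields: the uniform bound -/

set_option autoImplicit false

universe u

namespace Groth.Agent.Lib.Helper18.ArithCount

theorem exists_card_ringHom_le {A : Type u} [CommRing A] [Algebra.FiniteType ℤ A] (r : ℕ)
    (hr : ringKrullDim A ≤ r) :
    ∃ C P : ℕ, ∀ (F : Type u) [Field F] [Finite F],
      Finite (A →+* F) ∧ Nat.card (A →+* F) ≤ C * Nat.card F ^ r ∧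
        ∀ p : ℕ, p.Prime → P ≤ p → ((p : ℕ) : F) = 0 →
          Nat.card (A →+* F) * Nat.card F ≤ C * Nat.card F ^ r := by
  classical
  obtain ⟨N, D, hNpos, hND⟩ := exists_card_ringHom_le_generic (A := A) r hr
  have hb : ∀ p : ℕ, ∃ c : ℕ, p.Prime → ∀ (F : Type u) [Field F] [Finite F], ((p : ℕ) : F) = 0 →
      Finite (A →+* F) ∧ Nat.card (A →+* F) ≤ c * Nat.card F ^ r := by
    intro p
    by_cases hp : p.Prime
    · haveI : Fact p.Prime := ⟨hp⟩
      obtain ⟨c, hc⟩ := exists_card_ringHom_le_char (A := A) r hr p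
      exact ⟨c, fun _ => hc⟩
    · exact ⟨0, fun h => absurd h hp⟩
  choose c hc using hb
  refine ⟨D + ∑ p ∈ Finset.range (N + 1), c p, N + 1, fun F _ _ => ?_⟩
  have hq : 0 < Nat.card F := Nat.card_pos
  have hq1 : 1 ≤ Nat.card F := hq
  obtain ⟨p, hpF⟩ := CharP.exists F
  haveI := hpF
  have hpp : p.Prime := by
    rcases CharP.char_is_prime_or_zero F p with h | h
    · exact h
    · exfalso
      subst h
      haveI : CharZero F := CharP.charP_to_charZero F
      exact not_finite F
  have hpF0 : ((p : ℕ) : F) = 0 := CharP.cast_eq_zero F p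
  have hDC : D * Nat.card F ^ r ≤ (D + ∑ p ∈ Finset.range (N + 1), c p) * Nat.card F ^ r :=
    Nat.mul_le_mul_right _ (Nat.le_add_right _ _)
  by_cases hpN : N + 1 ≤ p
  · have hN0 : ((N : ℕ) : F) ≠ 0 := by
      intro hN0
      have h1 : p ∣ N := (CharP.cast_eq_zero_iff F p N).mp hN0
      have h3 : p ≤ N := Nat.le_of_dvd hNpos h1
      omega
    obtain ⟨hfin, hcard⟩ := hND F hN0
    refine ⟨hfin, ?_, fun _ _ _ _ => hcard.trans hDC⟩
    calc Nat.card (A →+* F) = Nat.card (A →+* F) * 1 := (mul_one _).symm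
      _ ≤ Nat.card (A →+* F) * Nat.card F := Nat.mul_le_mul_left _ hq1
      _ ≤ _ := hcard.trans hDC
  · obtain ⟨hfin, hcard⟩ := hc p hpp F hpF0
    refine ⟨hfin, ?_, ?_⟩
    · refine hcard.trans (Nat.mul_le_mul_right _ ?_)
      have h1 : c p ≤ ∑ p ∈ Finset.range (N + 1), c p :=
        Finset.single_le_sum (f := c) (fun _ _ => Nat.zero_le _)
          (Finset.mem_range.mpr (by omega))
      omega
    · intro p' hp' hp'N hp'0
      exfalso
      have h2 : p ∣ p' := (CharP.cast_eq_zero_iff F p p').mp hp'0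
      have h3 : p = p' := (Nat.prime_dvd_prime_iff_eq hpp hp').mp h2
      omega

end Groth.Agent.Lib.Helper18.ArithCount
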