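import Groth.Agent.Lib.Helper18.ArithCount.Ring
import Groth.Agent.Lib.Helper18.PtCount.Affine
import Groth.Agent.Lib.Helper24.FTZ.Main

/-! # Points of a finite type `ℤ`-scheme in finite fields: the uniform bound -/

set_option autoImplicit false
set_option linter.style.haveILetI false
set_option linter.unusedSectionVars false

universe u

open AlgebraicGeometry CategoryTheory TopologicalSpace

namespace Groth.Agent.Lib.Helper18.ArithCount

open Groth.Agent.Lib.Helper18.PtCount Groth.Agent.Lib.Helper24.FTZ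

variable {X : Scheme.{u}} (F : Type u) [Field F]

/-- The `F`-points of `X` landing in the open `U`. -/
def PtsIn (U : X.Opens) : Type u :=
  { g : Spec (CommRingCat.of F) ⟶ X // Set.range g ⊆ U }

/-- The ring map attached to a point landing in an affine open. -/
noncomputable def ptsHom {U : X.Opens} (hU : IsAffineOpen U) (g : PtsIn F U) :
    Γ(X, U) →+* F :=
  (Spec.preimage (IsOpenImmersion.lift hU.fromSpec g.1
    (by rw [hU.range_fromSpec]; exact g.2))).hom

theorem ptsHom_spec {U : X.Opens} (hU : IsAffineOpen U) (g : PtsIn F U) :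
    Spec.map (CommRingCat.ofHom (ptsHom F hU g)) ≫ hU.fromSpec = g.1 := by
  unfold ptsHom
  rw [CommRingCat.ofHom_hom, Spec.map_preimage, IsOpenImmersion.lift_fac]

theorem ptsHom_injective {U : X.Opens} (hU : IsAffineOpen U) :
    Function.Injective (ptsHom F hU) := by
  intro g g' h
  apply Subtype.ext
  rw [← ptsHom_spec F hU g, ← ptsHom_spec F hU g', h]

theorem exists_card_points_le (X : Scheme.{u}) [CompactSpace X]
    [LocallyOfFiniteType (Limits.IsTerminal.from specULiftZIsTerminal X)] (r : ℕ)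
    (hr : topologicalKrullDim X ≤ r) :
    ∃ C P : ℕ, ∀ (F : Type u) [Field F] [Finite F],
      Finite (Spec (CommRingCat.of F) ⟶ X) ∧
      Nat.card (Spec (CommRingCat.of F) ⟶ X) ≤ C * Nat.card F ^ r ∧
        ∀ p : ℕ, p.Prime → P ≤ p → ((p : ℕ) : F) = 0 →
          Nat.card (Spec (CommRingCat.of F) ⟶ X) * Nat.card F ≤ C * Nat.card F ^ r := by
  classical
  have haff : ∀ x : X, ∃ U : X.Opens, IsAffineOpen U ∧ x ∈ U := by
    intro x
    refine ⟨(X.affineCover.f (X.affineCover.idx x)).opensRange, isAffineOpen_opensRange _, ?_⟩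
    exact X.affineCover.covers x
  choose U hU hxU using haff
  obtain ⟨t, ht⟩ := isCompact_univ.elim_finite_subcover (fun x => (U x : Set X))
    (fun x => (U x).isOpen) (fun x _ => Set.mem_iUnion.2 ⟨x, hxU x⟩)
  have hN : ∀ x : X, ∃ C P : ℕ, ∀ (F : Type u) [Field F] [Finite F],
      Finite (PtsIn F (U x)) ∧ Nat.card (PtsIn F (U x)) ≤ C * Nat.card F ^ r ∧
        ∀ p : ℕ, p.Prime → P ≤ p → ((p : ℕ) : F) = 0 →
          Nat.card (PtsIn F (U x)) * Nat.card F ≤ C * Nat.card F ^ r := by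
    intro x
    haveI : Algebra.FiniteType ℤ Γ(X, U x) := finiteType_int_of_isAffineOpen X (hU x)
    have hdim : ringKrullDim Γ(X, U x) ≤ r := (ringKrullDim_Γ_le_top (hU x)).trans hr
    obtain ⟨C, P, hCP⟩ := exists_card_ringHom_le (A := Γ(X, U x)) r hdim
    refine ⟨C, P, fun F _ _ => ?_⟩
    obtain ⟨h1, h2, h3⟩ := hCP F
    haveI := h1
    have hle := Nat.card_le_card_of_injective _ (ptsHom_injective F (hU x))
    refine ⟨Finite.of_injective _ (ptsHom_injective F (hU x)), hle.trans h2, ?_⟩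
    intro p hp hPp hp0
    exact (Nat.mul_le_mul_right _ hle).trans (h3 p hp hPp hp0)
  choose C P hCP using hN
  refine ⟨∑ x ∈ t, C x, t.sup P, fun F _ _ => ?_⟩
  have hidx : ∀ g : Spec (CommRingCat.of F) ⟶ X, ∃ x ∈ t, Set.range g ⊆ U x := by
    intro g
    have h1 := ht (Set.mem_univ (g default))
    simp only [Set.mem_iUnion] at h1
    obtain ⟨x, hx, hgx⟩ := h1
    refine ⟨x, hx, ?_⟩
    rintro _ ⟨y, rfl⟩
    rw [Subsingleton.elim y default]
    exact hgx
  choose idx hidxt hidxU using hidx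
  let Φ : (Spec (CommRingCat.of F) ⟶ X) → Σ x : t, PtsIn F (U x.1) :=
    fun g => ⟨⟨idx g, hidxt g⟩, ⟨g, hidxU g⟩⟩
  have hΦ : Function.Injective Φ := by
    intro g g' h
    have h1 : ∀ a b : Σ x : t, PtsIn F (U x.1), a = b → a.2.1 = b.2.1 := by
      rintro a _ rfl
      rfl
    exact h1 _ _ h
  haveI : ∀ x : t, Finite (PtsIn F (U x.1)) := fun x => (hCP x.1 F).1
  have hle : Nat.card (Spec (CommRingCat.of F) ⟶ X) ≤ ∑ x : t, Nat.card (PtsIn F (U x.1)) := by
    calc Nat.card _ ≤ Nat.card (Σ x : t, PtsIn F (U x.1)) :=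
          Nat.card_le_card_of_injective Φ hΦ
      _ = ∑ x : t, Nat.card (PtsIn F (U x.1)) := Nat.card_sigma
  refine ⟨Finite.of_injective Φ hΦ, ?_, ?_⟩
  · calc Nat.card _ ≤ ∑ x : t, Nat.card (PtsIn F (U x.1)) := hle
      _ ≤ ∑ x : t, C x.1 * Nat.card F ^ r :=
          Finset.sum_le_sum fun x _ => (hCP x.1 F).2.1
      _ = (∑ x ∈ t, C x) * Nat.card F ^ r := by
          rw [Finset.sum_mul, ← Finset.sum_coe_sort t (fun x => C x * _)]
  · intro p hp hPp hp0
    calc Nat.card _ * Nat.card F ≤ (∑ x : t, Nat.card (PtsIn F (U x.1))) * Nat.card F :=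
          Nat.mul_le_mul_right _ hle
      _ = ∑ x : t, Nat.card (PtsIn F (U x.1)) * Nat.card F := Finset.sum_mul _ _ _
      _ ≤ ∑ x : t, C x.1 * Nat.card F ^ r :=
          Finset.sum_le_sum fun x _ => (hCP x.1 F).2.2 p hp
            ((Finset.le_sup (f := P) x.2).trans hPp) hp0
      _ = (∑ x ∈ t, C x) * Nat.card F ^ r := by
          rw [Finset.sum_mul, ← Finset.sum_coe_sort t (fun x => C x * _)]

end Groth.Agent.Lib.Helper18.ArithCount
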